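import Groth.Agent.VarDim.Proj
import Groth.Agent.VarDim.Top
import Groth.Agent.FibDim.Minimal
import Groth.Agent.FibDim.Basic
import Groth.Prelude.Def_RegImm

/-!
# Dimension counting for morphisms of schemes of finite type over a field

Dimensions of locally closed subsets in terms of `VarDim.deg`, images of closed sets, and the
lower bound on components of the preimage of a subscheme cut out by `c` equations.
-/

set_option autoImplicit false
set_option linter.style.haveILetI false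

open AlgebraicGeometry CategoryTheory Topology TopologicalSpace

namespace Groth.Agent.CharCycDim

universe u

open Groth.Agent

variable {k : Type u} [Field k] {X Y : Scheme.{u}}

theorem rd_eq_fdeg (f : X ⟶ Y) [LocallyOfFiniteType f] (x : X) :
    FibDim.rd f x = VarDim.fdeg f x := by
  rw [VarDim.fdeg, ← FibDim.rd_eq_rdeg, Cardinal.toNat_natCast]

theorem deg_comp (π : X ⟶ Y) (q : Y ⟶ Spec (CommRingCat.of k)) [LocallyOfFiniteType π]
    [LocallyOfFiniteType q] (x : X) :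
    VarDim.deg (π ≫ q) x = VarDim.deg q (π x) + FibDim.rd π x := by
  rw [rd_eq_fdeg, VarDim.deg_comp_eq]

theorem deg_map_le' (π : X ⟶ Y) (q : Y ⟶ Spec (CommRingCat.of k)) [LocallyOfFiniteType π]
    [LocallyOfFiniteType q] (x : X) : VarDim.deg q (π x) ≤ VarDim.deg (π ≫ q) x := by
  rw [deg_comp]; omega

section Dim

variable (f : X ⟶ Spec (CommRingCat.of k)) [LocallyOfFiniteType f]

theorem deg_le_dim {T : Set X} (hT : IsLocallyClosed T) {z : X} (hz : z ∈ T) :
    ((VarDim.deg f z : ℕ∞) : WithBot ℕ∞) ≤ topologicalKrullDim T := by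
  obtain ⟨U, Z, hU, hZ, rfl⟩ := hT
  rw [FibDim.topologicalKrullDim_locClosed_eq_iSup_deg f hU hZ]
  exact le_iSup (fun z : ↥(U ∩ Z) => ((VarDim.deg f z.1 : ℕ∞) : WithBot ℕ∞)) ⟨z, hz⟩

theorem dim_le {T : Set X} (hT : IsLocallyClosed T) {a : WithBot ℕ∞}
    (h : ∀ z ∈ T, ((VarDim.deg f z : ℕ∞) : WithBot ℕ∞) ≤ a) : topologicalKrullDim T ≤ a := by
  obtain ⟨U, Z, hU, hZ, rfl⟩ := hT
  rw [FibDim.topologicalKrullDim_locClosed_eq_iSup_deg f hU hZ]
  exact iSup_le fun z => h z.1 z.2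

theorem dim_add_le_iff {T : Set X} (hT : IsLocallyClosed T) (j n : ℕ) :
    topologicalKrullDim T + (j : WithBot ℕ∞) ≤ (n : WithBot ℕ∞) ↔
      ∀ z ∈ T, VarDim.deg f z + j ≤ n := by
  constructor
  · intro h z hz
    have h' : ((VarDim.deg f z : ℕ∞) : WithBot ℕ∞) + (j : WithBot ℕ∞) ≤ (n : WithBot ℕ∞) :=
      le_trans (add_le_add_left (deg_le_dim f hT hz) _) h
    exact_mod_cast h'
  · intro h
    rcases Set.eq_empty_or_nonempty T with rfl | ⟨z, hz⟩
    · have : topologicalKrullDim (∅ : Set X) ≤ ⊥ := dim_le f hT (fun z hz => absurd hz (by simp))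
      rw [le_bot_iff.1 this, WithBot.bot_add]
      exact bot_le
    · have hj : j ≤ n := le_trans (Nat.le_add_left _ _) (h z hz)
      have : topologicalKrullDim T ≤ ((n - j : ℕ) : WithBot ℕ∞) := dim_le f hT fun w hw => by
        have := h w hw
        have h2 : VarDim.deg f w ≤ n - j := by omega
        generalize n - j = m at h2 ⊢
        exact_mod_cast h2
      refine le_trans (add_le_add_left this _) ?_
      exact_mod_cast (by omega : n - j + j ≤ n)

theorem dim_le_nat_iff {T : Set X} (hT : IsLocallyClosed T) (n : ℕ) :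
    topologicalKrullDim T ≤ (n : WithBot ℕ∞) ↔ ∀ z ∈ T, VarDim.deg f z ≤ n := by
  constructor
  · intro h z hz
    have := le_trans (deg_le_dim f hT hz) h
    exact_mod_cast this
  · intro h
    exact dim_le f hT fun z hz => by exact_mod_cast h z hz

include f in
theorem noetherianSpace [CompactSpace X] : NoetherianSpace X := by
  haveI : IsLocallyNoetherian X := LocallyOfFiniteType.isLocallyNoetherian f
  haveI : IsNoetherian X := {}
  infer_instance

end Dim

section Generic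

variable {α β : Type*} [TopologicalSpace α] [TopologicalSpace β]

/-- A closed subset of a Noetherian sober space is the set of specializations of a finite subset. -/
theorem exists_finite_generic [NoetherianSpace α] [QuasiSober α] {F : Set α} (hF : IsClosed F) :
    ∃ G : Set α, G.Finite ∧ G ⊆ F ∧ ∀ x ∈ F, ∃ η ∈ G, η ⤳ x := by
  obtain ⟨S, hS, hc, hi, hSF⟩ := NoetherianSpace.exists_finite_set_isClosed_irreducible hF
  classical
  haveI := hS.to_subtype
  refine ⟨Set.range fun t : S => (hi t.1 t.2).genericPoint, Set.finite_range _, ?_, fun x hx => ?_⟩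
  · rintro _ ⟨t, rfl⟩
    rw [hSF]
    refine Set.mem_sUnion.2 ⟨t.1, t.2, ?_⟩
    have := (hi t.1 t.2).isGenericPoint_genericPoint_closure.mem
    rwa [(hc t.1 t.2).closure_eq] at this
  · rw [hSF] at hx
    obtain ⟨t, ht, hxt⟩ := Set.mem_sUnion.1 hx
    exact ⟨_, ⟨⟨t, ht⟩, rfl⟩,
      (hi t ht).isGenericPoint_genericPoint_closure.specializes (subset_closure hxt)⟩

/-- Points in the closure of the image of a closed set are specializations of points of the image. -/
theorem exists_specializes_of_mem_closure_image [NoetherianSpace α] [QuasiSober α] {F : Set α}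
    (hF : IsClosed F) (g : α → β) (hg : Continuous g) {y : β} (hy : y ∈ closure (g '' F)) :
    ∃ η ∈ F, g η ⤳ y := by
  obtain ⟨G, hG, hGF, hgen⟩ := exists_finite_generic hF
  have hsub : g '' F ⊆ ⋃ η ∈ G, closure {g η} := by
    rintro _ ⟨x, hx, rfl⟩
    obtain ⟨η, hη, hsp⟩ := hgen x hx
    exact Set.mem_iUnion₂.2 ⟨η, hη, specializes_iff_mem_closure.1 (hsp.map hg)⟩
  have hcl : IsClosed (⋃ η ∈ G, closure {g η}) := hG.isClosed_biUnion fun _ _ => isClosed_closure
  obtain ⟨η, hη, hmem⟩ := Set.mem_iUnion₂.1 (closure_minimal hsub hcl hy)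
  exact ⟨η, hGF hη, specializes_iff_mem_closure.2 hmem⟩

end Generic

section Fibres

theorem mem_fibreDimGE_iff (π : X ⟶ Y) [LocallyOfFiniteType π] (j : ℕ) (y : Y) :
    y ∈ {y : Y | (j : WithBot ℕ∞) ≤ topologicalKrullDim (π.fiber y)} ↔
      ∃ c, π c = y ∧ j ≤ FibDim.rd π c :=
  FibDim.le_topologicalKrullDim_fiber_iff π y j

theorem fibreDimGE_eq_image (π : X ⟶ Y) [LocallyOfFiniteType π] (j : ℕ) :
    {y : Y | (j : WithBot ℕ∞) ≤ topologicalKrullDim (π.fiber y)} =
      π '' {x : X | (j : WithBot ℕ∞) ≤ FlatMor.fibreDimAt π x} := by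
  ext y
  rw [mem_fibreDimGE_iff]
  constructor
  · rintro ⟨c, hc, hj⟩
    exact ⟨c, le_trans (by exact_mod_cast hj) (FibDim.rd_le_fibreDimAt π (specializes_refl c) rfl), hc⟩
  · rintro ⟨c, hc, rfl⟩
    obtain ⟨z, -, hz, -, he⟩ := FibDim.exists_fibMax_generization π c
    refine ⟨z, hz, ?_⟩
    have h : (j : WithBot ℕ∞) ≤ FlatMor.fibreDimAt π c := hc
    rw [he] at h
    exact_mod_cast h

end Fibres

section Cut

/-- The points of an affine open in the range of a morphism restricting to a closed immersion there. -/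
theorem mem_range_iff_forall_ker {W : Scheme.{u}} (ι : W ⟶ X) {U : X.Opens}
    (hU : IsAffineOpen U) (hι : IsClosedImmersion (ι ∣_ U)) {x : X} (hx : x ∈ U) :
    x ∈ Set.range ι ↔ ∀ s ∈ RingHom.ker (ι.app U).hom, x ∉ X.basicOpen s := by
  constructor
  · rintro ⟨w, rfl⟩ s hs hws
    have : w ∈ ι ⁻¹ᵁ X.basicOpen s := hws
    rw [Scheme.preimage_basicOpen, (RingHom.mem_ker.1 hs : (ι.app U).hom s = 0)] at this
    simp at this
  · intro h
    by_contra hn
    haveI : IsAffine (U : Scheme.{u}) := hU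
    have hcl : IsClosed (Set.range (ι ∣_ U)) := (ι ∣_ U).isClosedEmbedding.isClosed_range
    have hxr : (⟨x, hx⟩ : (U : Scheme.{u})) ∉ Set.range (ι ∣_ U) := by
      rintro ⟨w, hw⟩
      apply hn
      refine ⟨(ι ⁻¹ᵁ U).ι w, ?_⟩
      have := congrArg U.ι hw
      rw [← Scheme.Hom.comp_apply, morphismRestrict_ι, Scheme.Hom.comp_apply] at this
      exact this
    have hopen : IsOpen (U.ι '' (Set.range (ι ∣_ U))ᶜ) :=
      U.ι.isOpenEmbedding.isOpenMap _ hcl.isOpen_compl
    obtain ⟨s, hsU, hxs⟩ := hU.exists_basicOpen_le (V := ⟨_, hopen⟩)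
      (⟨x, ⟨_, hxr, rfl⟩⟩ : (⟨_, hopen⟩ : X.Opens)) hx
    have hbot : W.basicOpen ((ι.app U).hom s) = ⊥ := by
      rw [← Scheme.preimage_basicOpen, eq_bot_iff]
      intro w hw
      obtain ⟨u, hu, he⟩ := hsU hw
      refine absurd ⟨⟨w, X.basicOpen_le s hw⟩, ?_⟩ hu
      apply U.ι.isOpenEmbedding.injective
      have e : ((ι ∣_ U) ≫ U.ι) (⟨w, X.basicOpen_le s hw⟩ : ↥(ι ⁻¹ᵁ U).toScheme) = ι w := by
        rw [morphismRestrict_ι]; rfl
      exact ((Scheme.Hom.comp_apply (ι ∣_ U) U.ι _).symm.trans e).trans he.symm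
    haveI : IsAffine ((ι ⁻¹ᵁ U : W.Opens) : Scheme.{u}) := isAffine_of_isAffineHom (ι ∣_ U)
    have hcpt : IsCompact ((ι ⁻¹ᵁ U : W.Opens) : Set W) :=
      IsAffineOpen.isCompact (U := ι ⁻¹ᵁ U) (by assumption)
    obtain ⟨m, hm⟩ := (Scheme.isNilpotent_iff_basicOpen_eq_bot_of_isCompact hcpt _).2 hbot
    refine h (s ^ (m + 1)) (RingHom.mem_ker.2 ?_) ?_
    · rw [map_pow, pow_succ, hm, zero_mul]
    · rwa [Scheme.basicOpen_pow _ _ (Nat.succ_pos m)]

/-- **Components of the preimage of a subscheme cut out by `c` equations** lose at most `c`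
dimensions. -/
theorem deg_le_deg_add_of_isRegularImmersionOfCodim {W C : Scheme.{u}}
    (p : C ⟶ Spec (CommRingCat.of k)) [LocallyOfFiniteType p] (π : C ⟶ X) (ι : W ⟶ X)
    {κ : RegImm.Kind} {c : ℕ} (hι : RegImm.IsRegularImmersionOfCodim κ c ι)
    {η₀ η : C} (h0 : η₀ ⤳ η) (hη : π η ∈ Set.range ι)
    (hmax : ∀ ζ, η₀ ⤳ ζ → π ζ ∈ Set.range ι → ζ ⤳ η → ζ = η) :
    VarDim.deg p η₀ ≤ VarDim.deg p η + c := by
  obtain ⟨w, hw⟩ := hη
  obtain ⟨U, hwU, hcl, rs, hlen, -, hker⟩ := hι.2 w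
  rw [hw] at hwU
  obtain ⟨V, hV, hηV, hVU⟩ := exists_isAffineOpen_mem_and_subset (x := η) (U := π ⁻¹ᵁ U.1) hwU
  obtain ⟨a, ha⟩ := VarDim.exists_fromSpec_eq hV hηV
  obtain ⟨b, hb⟩ := VarDim.exists_fromSpec_eq hV (h0.mem_open V.2 hηV)
  have key : ∀ r : PrimeSpectrum Γ(C, V),
      π (hV.fromSpec r) ∈ Set.range ι ↔ ∀ s ∈ rs, (π.appLE U.1 V hVU).hom s ∈ r.asIdeal := by
    intro r
    have hrV : hV.fromSpec r ∈ V := VarDim.fromSpec_mem hV r
    rw [mem_range_iff_forall_ker ι U.2 hcl (hVU hrV)]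
    have hiff : ∀ s, π (hV.fromSpec r) ∈ X.basicOpen s ↔
        (π.appLE U.1 V hVU).hom s ∉ r.asIdeal := by
      intro s
      have h1 : hV.fromSpec r ∈ C.basicOpen ((π.appLE U.1 V hVU).hom s) ↔
          (π.appLE U.1 V hVU).hom s ∉ r.asIdeal := by
        have := congrArg (fun O : (Spec Γ(C, V)).Opens => r ∈ O)
          (hV.fromSpec_preimage_basicOpen ((π.appLE U.1 V hVU).hom s))
        exact Iff.of_eq this
      refine Iff.trans ?_ h1
      have h2 : C.basicOpen ((π.appLE U.1 V hVU).hom s) = V ⊓ π ⁻¹ᵁ X.basicOpen s :=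
        Scheme.basicOpen_appLE π V U.1 hVU s
      exact Iff.trans ⟨fun h => (⟨hrV, h⟩ : hV.fromSpec r ∈ V ⊓ π ⁻¹ᵁ X.basicOpen s), fun h => h.2⟩
        (Iff.of_eq (congrArg (fun O : C.Opens => hV.fromSpec r ∈ O) h2.symm))
    simp only [hiff, not_not]
    constructor
    · exact fun h s hs => h s (hker ▸ Ideal.subset_span hs)
    · intro h s hs
      rw [hker, Ideal.ofList] at hs
      have hsub : Ideal.span {t | t ∈ rs} ≤ r.asIdeal.comap (π.appLE U.1 V hVU).hom :=
        Ideal.span_le.2 fun t ht => h t ht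
      exact hsub hs
  obtain ⟨_, hft⟩ := VarDim.exists_algebra p hV
  classical
  let S : Finset Γ(C, V) := (rs.map (π.appLE U.1 V hVU).hom).toFinset
  have hSmem : ∀ t, t ∈ S ↔ ∃ s ∈ rs, (π.appLE U.1 V hVU).hom s = t := fun t => by
    simp [S]
  have hba : b ≤ a := (VarDim.fromSpec_specializes_iff hV b a).1 (by rwa [ha, hb])
  have hmin : a.asIdeal ∈ (b.asIdeal ⊔ Ideal.span (S : Set Γ(C, V))).minimalPrimes := by
    refine ⟨⟨a.2, sup_le hba (Ideal.span_le.2 fun t ht => ?_)⟩, fun Q hQ hQa => ?_⟩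
    · obtain ⟨s, hs, rfl⟩ := (hSmem t).1 ht
      exact (key a).1 (ha.symm ▸ ⟨w, hw⟩) s hs
    · have heq := hmax (hV.fromSpec ⟨Q, hQ.1⟩)
        (by rw [← hb]; exact (VarDim.fromSpec_specializes_iff hV b ⟨Q, hQ.1⟩).2 (le_sup_left.trans hQ.2))
        ((key ⟨Q, hQ.1⟩).2 fun s hs =>
          hQ.2 (Ideal.mem_sup_right (Ideal.subset_span ((hSmem _).2 ⟨s, hs, rfl⟩))))
        (by rw [← ha]; exact (VarDim.fromSpec_specializes_iff hV ⟨Q, hQ.1⟩ a).2 hQa)
      rw [← ha] at heq
      exact (congrArg PrimeSpectrum.asIdeal (hV.fromSpec.isOpenEmbedding.injective heq)).ge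
  have hle := VarDim.ProjN.coheight_le_of_mem_minimalPrimes_sup (k := k) S hmin
  rw [VarDim.deg_eq_coheight p hV, VarDim.deg_eq_coheight p hV, hb, ha] at hle
  have hcard : S.card ≤ c := (List.toFinset_card_le _).trans (by simp [hlen])
  have : VarDim.deg p η₀ ≤ VarDim.deg p η + S.card := by exact_mod_cast hle
  omega

end Cut

end Groth.Agent.CharCycDim
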