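import Groth.Agent.CharCycDim.Basic
import Groth.Agent.FibDim.BaseChange
import Mathlib.AlgebraicGeometry.Morphisms.Separated
import Mathlib.AlgebraicGeometry.Morphisms.UniversallyInjective

/-!
# Well intersection: pairs of points, pointwise radicial maps, base change of dimensions
-/

set_option autoImplicit false
set_option linter.style.haveILetI false

open AlgebraicGeometry CategoryTheory CategoryTheory.Limits Topology TopologicalSpace

namespace Groth.Agent.CharCycDim

universe u

open Groth.Agent

section WithBotArith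

theorem add_nat_le_add_nat_iff {a b : WithBot ℕ∞} (n : ℕ) :
    a + (n : WithBot ℕ∞) ≤ b + (n : WithBot ℕ∞) ↔ a ≤ b := by
  induction a with
  | bot => simp
  | coe a =>
  induction b with
  | bot => simp
  | coe b =>
  show (((a + n : ℕ∞)) : WithBot ℕ∞) ≤ ((b + n : ℕ∞) : WithBot ℕ∞) ↔ (a : WithBot ℕ∞) ≤ b
  rw [WithBot.coe_le_coe, WithBot.coe_le_coe, ENat.add_le_add_iff_right (ENat.coe_ne_top n)]

/-- The arithmetic of the well intersection inequality. -/
theorem lt_of_add_le {D : WithBot ℕ∞} {e a b : ℕ}
    (h : ((e : ℕ∞) : WithBot ℕ∞) + D ≤ ((a : ℕ∞) : WithBot ℕ∞) + ((b : ℕ∞) : WithBot ℕ∞))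
    (hb : ((b : ℕ∞) : WithBot ℕ∞) < D) : e < a := by
  rcases D with _ | D
  · exact absurd hb not_lt_bot
  have hb' : (b : ℕ∞) < D := WithBot.coe_lt_coe.1 hb
  have h' : (e : ℕ∞) + D ≤ (a : ℕ∞) + b := WithBot.coe_le_coe.1 h
  have : (e : ℕ∞) + (b + 1 : ℕ) ≤ (a : ℕ∞) + b := by
    refine le_trans (add_le_add_right ?_ _) h'
    push_cast
    exact ENat.add_one_le_iff (ENat.coe_ne_top b) |>.2 hb'
  norm_cast at this
  omega

end WithBotArith

variable {k : Type u} [Field k] {X S : Scheme.{u}}

theorem dim_eq_deg_generic (f : X ⟶ Spec (CommRingCat.of k)) [LocallyOfFiniteType f] {Y : Set X}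
    (hY : IsClosed Y) (hYi : IsIrreducible Y) :
    topologicalKrullDim Y = ((VarDim.deg f hYi.genericPoint : ℕ∞) : WithBot ℕ∞) := by
  rw [← VarDim.topologicalKrullDim_closure_singleton f, (hYi.isGenericPoint_genericPoint hY).def]

/-- Images of locally closed sets: points of the closure are specializations of image points. -/
theorem exists_specializes_of_mem_closure_image_locClosed {α β : Type*} [TopologicalSpace α]
    [TopologicalSpace β] [NoetherianSpace α] [QuasiSober α] {T : Set α} (hT : IsLocallyClosed T)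
    (g : α → β) (hg : Continuous g) {y : β} (hy : y ∈ closure (g '' T)) :
    ∃ η ∈ T, g η ⤳ y := by
  obtain ⟨U, Z, hU, hZ, rfl⟩ := hT
  obtain ⟨G, hG, hGF, hgen⟩ := exists_finite_generic (isClosed_closure (s := U ∩ Z))
  have hsub : g '' (U ∩ Z) ⊆ ⋃ η ∈ G ∩ (U ∩ Z), closure {g η} := by
    rintro _ ⟨x, hx, rfl⟩
    obtain ⟨η, hη, hsp⟩ := hgen x (subset_closure hx)
    exact Set.mem_iUnion₂.2 ⟨η, ⟨hη, hsp.mem_open hU hx.1,
      closure_minimal Set.inter_subset_right hZ (hGF hη)⟩,
      specializes_iff_mem_closure.1 (hsp.map hg)⟩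
  have hcl : IsClosed (⋃ η ∈ G ∩ (U ∩ Z), closure {g η}) :=
    (hG.subset Set.inter_subset_left).isClosed_biUnion fun _ _ => isClosed_closure
  obtain ⟨η, hη, hmem⟩ := Set.mem_iUnion₂.1 (closure_minimal hsub hcl hy)
  exact ⟨η, hη.2, specializes_iff_mem_closure.2 hmem⟩

/-- The off-diagonal pairs over a pair of closed subsets form a locally closed set. -/
theorem isLocallyClosed_offDiag (f : X ⟶ S) [IsSeparated f] {Y Z : Set X} (hY : IsClosed Y)
    (hZ : IsClosed Z) :
    IsLocallyClosed {p : ↥(pullback f f) | pullback.fst f f p ∈ Y ∧ pullback.snd f f p ∈ Z ∧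
      p ∉ Set.range (pullback.diagonal f)} := by
  refine ⟨(Set.range (pullback.diagonal f))ᶜ, pullback.fst f f ⁻¹' Y ∩ pullback.snd f f ⁻¹' Z,
    (pullback.diagonal f).isClosedEmbedding.isClosed_range.isOpen_compl,
    (hY.preimage (pullback.fst f f).continuous).inter (hZ.preimage (pullback.snd f f).continuous), ?_⟩
  ext p
  exact ⟨fun ⟨a, b, c⟩ => ⟨c, a, b⟩, fun ⟨c, a, b⟩ => ⟨a, b, c⟩⟩

theorem not_mem_diag {f : X ⟶ S} {p : ↥(pullback f f)}
    (h : pullback.fst f f p ≠ pullback.snd f f p) : p ∉ Set.range (pullback.diagonal f) := by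
  rintro ⟨x, rfl⟩
  apply h
  rw [← Scheme.Hom.comp_apply, ← Scheme.Hom.comp_apply, pullback.diagonal_fst, pullback.diagonal_snd]

set_option backward.defeqAttrib.useBackward true in
set_option backward.isDefEq.respectTransparency.types false in
/-- A point over which every pair is diagonal has purely inseparable residue field extension. -/
theorem isPurelyInseparable_residueFieldMap (f : X ⟶ S) (x : X)
    (hd : ∀ p : ↥(pullback f f), pullback.fst f f p = x → pullback.snd f f p = x →
      p ∈ Set.range (pullback.diagonal f)) :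
    (f.residueFieldMap x).hom.IsPurelyInseparable := by
  algebraize [(f.residueFieldMap x).hom]
  rw [RingHom.IsPurelyInseparable, isPurelyInseparable_iff_subsingleton_emb, subsingleton_iff]
  intro σ₁ σ₂
  apply AlgHom.coe_ringHom_injective
  let g₁ := (X.SpecToEquivOfField _).symm ⟨_, CommRingCat.ofHom σ₁.toRingHom⟩
  let g₂ := (X.SpecToEquivOfField _).symm ⟨_, CommRingCat.ofHom σ₂.toRingHom⟩
  suffices X.SpecToEquivOfField _ g₁ = X.SpecToEquivOfField _ g₂ by
    rw [Equiv.apply_symm_apply, Equiv.apply_symm_apply] at this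
    exact congr($(this).2.hom)
  let q := pullback.lift (f := f) (g := f) g₁ g₂ <| by
    simp only [g₁, g₂, Scheme.SpecToEquivOfField_symm_apply, AlgHom.toRingHom_eq_coe,
      Category.assoc, ← f.SpecMap_residueFieldMap_fromSpecResidueField x, ← Spec.map_comp_assoc]
    congr 2
    ext a
    simp only [CommRingCat.hom_comp, RingHom.comp_apply]
    exact (AlgHom.commutes σ₁ a).trans (AlgHom.commutes σ₂ a).symm
  have q_fst : q ≫ pullback.fst f f = g₁ := pullback.lift_fst _ _ _
  have q_snd : q ≫ pullback.snd f f = g₂ := pullback.lift_snd _ _ _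
  rw [Scheme.SpecToEquivOfField_eq_iff, ← q_fst, ← q_snd]
  obtain ⟨u, hu⟩ := hd (q (IsLocalRing.closedPoint _))
    (by rw [← Scheme.Hom.comp_apply, q_fst]; simp [g₁, Scheme.SpecToEquivOfField_symm_apply])
    (by rw [← Scheme.Hom.comp_apply, q_snd]; simp [g₂, Scheme.SpecToEquivOfField_symm_apply])
  have hux : u = x := by
    have := congr(pullback.fst f f $(hu))
    rw [← Scheme.Hom.comp_apply, ← Scheme.Hom.comp_apply] at this
    simpa [Scheme.SpecToEquivOfField_symm_apply, q_fst, g₁] using this
  refine ⟨by simp [g₁, g₂, q_fst, q_snd], ?_⟩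
  dsimp
  simp only [Scheme.descResidueField_stalkClosedPointTo_comp, ← Category.assoc]
  congr 1
  rw [← cancel_mono (Scheme.residueFieldCongr (hux ▸ hu).symm).hom]
  have : Mono (Scheme.Hom.residueFieldMap (pullback.diagonal f) x) :=
    ConcreteCategory.mono_of_injective _ (RingHom.injective _)
  simp [← cancel_mono ((pullback.diagonal f).residueFieldMap x), ← Scheme.residueFieldMap_comp,
    (pullback.fst f f).residueFieldMap_congr', (pullback.snd f f).residueFieldMap_congr'_assoc,
    Scheme.Hom.residueFieldMap_congr (pullback.diagonal_snd f),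
    Scheme.Hom.residueFieldMap_congr (pullback.diagonal_fst f)]

section BaseChange

variable {S' P P' : Scheme.{u}}

/-- Pulling back along a morphism all of whose fibres have dimension `d` adds `d` to dimensions. -/
theorem dim_preimage_eq_add (g : S' ⟶ S) [LocallyOfFiniteType g] (d : ℕ)
    (hd : ∀ s : S, topologicalKrullDim (g.fiber s) = d) {Φ : P' ⟶ P} {a : P' ⟶ S'} {b : P ⟶ S}
    [LocallyOfFiniteType Φ] (h : IsPullback a Φ g b)
    (p : P ⟶ Spec (CommRingCat.of k)) [LocallyOfFiniteType p] {T : Set P} (hT : IsLocallyClosed T) :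
    topologicalKrullDim (Φ ⁻¹' T) = topologicalKrullDim T + (d : WithBot ℕ∞) := by
  have hT' := hT.preimage Φ.continuous
  have hrd : ∀ x, FibDim.rd Φ x ≤ d := by
    intro x
    refine (FibDim.rd_baseChange_le h x).trans ?_
    have h1 := (FibDim.le_topologicalKrullDim_fiber_iff g (g (a x)) (FibDim.rd g (a x))).2
      ⟨a x, rfl, le_rfl⟩
    rw [hd] at h1
    exact_mod_cast h1
  have hlift : ∀ z : P, ∃ x, Φ x = z ∧ d ≤ FibDim.rd Φ x := by
    intro z
    obtain ⟨s', hs', hds⟩ := (FibDim.le_topologicalKrullDim_fiber_iff g (b z) d).1 (hd (b z)).ge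
    obtain ⟨x, hx⟩ := FibDim.exists_rd_baseChange_eq h s' z hs'
    exact ⟨x, hx.2.1, hx.2.2 ▸ hds⟩
  refine le_antisymm (dim_le (Φ ≫ p) hT' fun x hx => ?_) ?_
  · rw [deg_comp Φ p]
    refine le_trans ?_ (add_le_add_left (deg_le_dim p hT (hx : Φ x ∈ T)) _)
    exact_mod_cast Nat.add_le_add_left (hrd x) _
  · rcases eq_or_ne (topologicalKrullDim (Φ ⁻¹' T)) ⊥ with hbot | hbot
    · have : T = ∅ := Set.eq_empty_of_forall_notMem fun z hz => by
        obtain ⟨x, hx, -⟩ := hlift z
        have hxT : x ∈ Φ ⁻¹' T := Set.mem_preimage.2 (hx.symm ▸ hz)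
        have h1 := deg_le_dim (Φ ≫ p) hT' hxT
        rw [hbot] at h1
        simp at h1
      subst this
      have : topologicalKrullDim (∅ : Set P) ≤ ⊥ := dim_le p hT fun z hz => absurd hz (by simp)
      rw [le_bot_iff.1 this, WithBot.bot_add]
      exact bot_le
    · obtain ⟨m, hm⟩ := WithBot.ne_bot_iff_exists.1 hbot
      induction m using ENat.recTopCoe with
      | top => rw [← hm]; exact le_top
      | coe m =>
        rw [← hm]
        refine (dim_add_le_iff p hT d m).2 fun z hz => ?_
        obtain ⟨x, hx, hdx⟩ := hlift z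
        have hxT : x ∈ Φ ⁻¹' T := Set.mem_preimage.2 (hx.symm ▸ hz)
        have h1 := (dim_le_nat_iff (Φ ≫ p) hT' m).1 hm.ge x hxT
        rw [deg_comp Φ p, hx] at h1
        omega

theorem range_eq_preimage_of_isPullback {A B C D : Scheme.{u}} {fst : A ⟶ B} {snd : A ⟶ C}
    {f : B ⟶ D} {g : C ⟶ D} (h : IsPullback fst snd f g) :
    Set.range snd = g ⁻¹' Set.range f := by
  rw [← Scheme.Pullback.range_snd]
  rw [show (snd : A ⟶ C) = h.isoPullback.hom ≫ pullback.snd f g from (h.isoPullback_hom_snd).symm]
  rw [Scheme.Hom.comp_base, TopCat.coe_comp]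
  exact (Function.Surjective.range_comp h.isoPullback.hom.surjective _)

variable (f : X ⟶ S) (g : S' ⟶ S)

/-- The comparison map `X' ×_{S'} X' ⟶ X ×_S X`. -/
noncomputable def pairMap :
    pullback (pullback.snd f g) (pullback.snd f g) ⟶ pullback f f :=
  pullback.map _ _ _ _ (pullback.fst f g) (pullback.fst f g) g pullback.condition.symm
    pullback.condition.symm

theorem pairMap_fst : pairMap f g ≫ pullback.fst f f = pullback.fst _ _ ≫ pullback.fst f g :=
  pullback.lift_fst _ _ _

theorem pairMap_snd : pairMap f g ≫ pullback.snd f f = pullback.snd _ _ ≫ pullback.fst f g :=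
  pullback.lift_snd _ _ _

theorem isPullback_pairMap :
    IsPullback (pullback.fst (pullback.snd f g) (pullback.snd f g) ≫ pullback.snd f g)
      (pairMap f g) g (pullback.fst f f ≫ f) := by
  refine (IsPullback.of_isLimit' ⟨?_⟩ ?_).flip
  · rw [← Category.assoc, pairMap_fst, Category.assoc, Category.assoc, pullback.condition]
  refine PullbackCone.IsLimit.mk _ (fun s => pullback.lift
      (pullback.lift (s.fst ≫ pullback.fst f f) s.snd (by rw [Category.assoc]; exact s.condition))
      (pullback.lift (s.fst ≫ pullback.snd f f) s.snd (by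
        rw [Category.assoc, ← pullback.condition (f := f) (g := f)]; exact s.condition))
      (by rw [pullback.lift_snd, pullback.lift_snd])) (fun s => ?_) (fun s => ?_) (fun s m h1 h2 => ?_)
  · apply pullback.hom_ext
    · rw [Category.assoc, pairMap_fst, pullback.lift_fst_assoc, pullback.lift_fst]
    · rw [Category.assoc, pairMap_snd, pullback.lift_snd_assoc, pullback.lift_fst]
  · rw [pullback.lift_fst_assoc, pullback.lift_snd]
  · apply pullback.hom_ext
    · rw [pullback.lift_fst]
      apply pullback.hom_ext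
      · rw [pullback.lift_fst, ← h1, Category.assoc, Category.assoc, pairMap_fst]
      · rw [pullback.lift_snd, ← h2, Category.assoc]
    · rw [pullback.lift_snd]
      apply pullback.hom_ext
      · rw [pullback.lift_fst, ← h1, Category.assoc, Category.assoc, pairMap_snd]
      · rw [pullback.lift_snd, Category.assoc]
        exact (congrArg (m ≫ ·) pullback.condition.symm).trans h2

theorem isPullback_diag :
    IsPullback (pullback.fst f g) (pullback.diagonal (pullback.snd f g)) (pullback.diagonal f)
      (pairMap f g) := by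
  have h1 : pullback.fst f g ≫ pullback.diagonal f =
      pullback.diagonal (pullback.snd f g) ≫ pairMap f g := by
    apply pullback.hom_ext
    · rw [Category.assoc, pullback.diagonal_fst, Category.comp_id, Category.assoc, pairMap_fst,
        pullback.diagonal_fst_assoc]
    · rw [Category.assoc, pullback.diagonal_snd, Category.comp_id, Category.assoc, pairMap_snd,
        pullback.diagonal_snd_assoc]
  refine IsPullback.of_isLimit' ⟨h1⟩ (PullbackCone.IsLimit.mk _
    (fun s => s.snd ≫ pullback.fst _ _) (fun s => ?_) (fun s => ?_) (fun s m h2 h3 => ?_))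
  · have := congrArg (· ≫ pullback.fst f f) s.condition
    simp only [Category.assoc, pullback.diagonal_fst, Category.comp_id, pairMap_fst] at this
    rw [Category.assoc]
    exact this.symm
  · apply pullback.hom_ext
    · rw [Category.assoc, pullback.diagonal_fst, Category.comp_id]
    · rw [Category.assoc, pullback.diagonal_snd, Category.comp_id]
      apply pullback.hom_ext
      · have a := congrArg (· ≫ pullback.fst f f) s.condition
        have b := congrArg (· ≫ pullback.snd f f) s.condition
        simp only [Category.assoc, pullback.diagonal_fst, pullback.diagonal_snd, Category.comp_id,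
          pairMap_fst, pairMap_snd] at a b
        rw [Category.assoc, Category.assoc, ← a, ← b]
      · rw [Category.assoc, Category.assoc, pullback.condition]
  · rw [← h3, Category.assoc, pullback.diagonal_fst, Category.comp_id]

end BaseChange

end Groth.Agent.CharCycDim
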